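import Groth.Agent.H1Gal.FinEt
import Groth.Agent.H1EssEt.Fraction
import Groth.Agent.Hensel.EtaleReduced
import Mathlib.RingTheory.Invariant.Galois

/-!
# Subfields of the fraction field of a quotient of a strict henselization

For a Noetherian henselian local ring `A`, a strict henselization `S`, a homomorphism `φ` of `S` to a
field generated by fractions of the image, and a finitely generated subfield `L`, the elements of the
image lying in `L` form the image of a finite étale subalgebra.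
-/

set_option autoImplicit false
universe u
open IsLocalRing TensorProduct
open scoped Pointwise

namespace Groth.Agent.H1Gal

variable {A S : Type u} [CommRing A] [HenselianLocalRing A] [IsNoetherianRing A] [CommRing S]
  [IsLocalRing S] [Algebra A S] [IsLocalHom (algebraMap A S)] [Hensel.IsStrictHenselization A S]
  {K : Type u} [Field K] [Algebra A K] (φ : S →ₐ[A] K)

theorem isNoetherianRing (A : Type u) {S : Type u} [CommRing A] [HenselianLocalRing A]
    [IsNoetherianRing A] [CommRing S] [IsLocalRing S] [Algebra A S] [IsLocalHom (algebraMap A S)]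
    [Hensel.IsStrictHenselization A S] : IsNoetherianRing S :=
  (Hensel.isHenzLike_of_isStrictHenselization (R := A) (S := S)).isNoetherianRing_iff.mp inferInstance

theorem mem_minimalPrimes_map {q : Ideal A} (Q : Ideal S) [Q.IsPrime]
    (hQ : Q.comap (algebraMap A S) = q) : Q ∈ (q.map (algebraMap A S)).minimalPrimes := by
  refine ⟨⟨‹_›, Ideal.map_le_iff_le_comap.mpr hQ.ge⟩, fun P hP hle => ?_⟩
  haveI := hP.1
  exact ((Hensel.isHenzLike_of_isStrictHenselization (R := A) (S := S)).eq_of_le_of_comap_eq hle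
    (le_antisymm (Ideal.comap_mono hle) (hQ.trans_le (Ideal.map_le_iff_le_comap.mp hP.2)))).ge

theorem comap_of_mem_minimalPrimes_map {q : Ideal A} [q.IsPrime] {Q : Ideal S}
    (hQ : Q ∈ (q.map (algebraMap A S)).minimalPrimes) : Q.comap (algebraMap A S) = q := by
  haveI := hQ.1.1
  haveI : Module.Flat A S :=
    haveI := H1EssEt.weaklyEtale (A := A) (S := S)
    Algebra.WeaklyEtale.flat
  haveI : Q.LiesOver (Q.under A) := ⟨rfl⟩
  obtain ⟨P, hPle, hP, hPo⟩ := Ideal.exists_ideal_le_liesOver_of_le (p := q) (q := Q.under A) Q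
    (Ideal.map_le_iff_le_comap.mp hQ.1.2)
  have : P = Q := le_antisymm hPle (hQ.2 ⟨hP, Ideal.map_le_iff_le_comap.mpr hPo.over.le⟩ hPle)
  exact this ▸ hPo.over.symm

theorem le_of_gens {E : Subalgebra A S} {gens : Finset S} (hg : Submodule.span A (gens : Set S) = E.toSubmodule)
    {E' : Subalgebra A S} (h : (gens : Set S) ⊆ E') : E ≤ E' := by
  intro x hx
  exact (Submodule.span_le (p := E'.toSubmodule)).mpr h (hg ▸ hx)

/-- A finite étale subalgebra separating the primes over `q` generates each of them. -/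
theorem eq_map_comap {q : Ideal A} [q.IsPrime] {E : Subalgebra A S} (hE : IsFE E)
    (hsep : ∀ P ∈ (q.map (algebraMap A S)).minimalPrimes, ∀ P' ∈ (q.map (algebraMap A S)).minimalPrimes,
      P.comap (algebraMap E S) = P'.comap (algebraMap E S) → P = P')
    {Q : Ideal S} (hQ : Q ∈ (q.map (algebraMap A S)).minimalPrimes) :
    Q = (Q.comap (algebraMap E S)).map (algebraMap E S) := by
  classical
  haveI := hQ.1.1
  set p := Q.comap (algebraMap E S) with hp
  refine le_antisymm (fun y hy => ?_) Ideal.map_comap_le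
  obtain ⟨gens, hgens⟩ := Module.Finite.iff_fg.mp (show Module.Finite A E.toSubmodule from hE.finite)
  obtain ⟨-, E', hE', -, hs⟩ := exists_isFE_ge (A := A) (insert y gens)
  rw [Finset.coe_insert, Set.insert_subset_iff] at hs
  have hle : E ≤ E' := le_of_gens hgens hs.2
  letI : Algebra E E' := (Subalgebra.inclusion hle).toRingHom.toAlgebra
  haveI : IsScalarTower A E E' := IsScalarTower.of_algebraMap_eq fun _ => rfl
  haveI : IsScalarTower E E' S := IsScalarTower.of_algebraMap_eq fun _ => rfl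
  haveI := hE.etale
  haveI := hE'.etale
  haveI : Algebra.FormallyEtale E E' := Algebra.FormallyEtale.of_restrictScalars (R := A)
  haveI : Algebra.FinitePresentation E E' :=
    Algebra.FinitePresentation.of_restrict_scalars_finitePresentation A E E'
  haveI : Algebra.Etale E E' := {}
  haveI : IsReduced (E' ⧸ p.map (algebraMap E E')) := by
    haveI := Hensel.isReduced_of_etale (E ⧸ p) ((E ⧸ p) ⊗[E] E')
    let e := (Algebra.TensorProduct.quotIdealMapEquivTensorQuot E' p).toRingEquiv.trans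
      (Algebra.TensorProduct.comm E E' (E ⧸ p)).toRingEquiv
    exact isReduced_of_injective e e.injective
  suffices hmem : (⟨y, hs.1⟩ : E') ∈ p.map (algebraMap E E') by
    have := Ideal.mem_map_of_mem (algebraMap E' S) hmem
    rwa [Ideal.map_map, ← IsScalarTower.algebraMap_eq] at this
  rw [← ((Ideal.isRadical_iff_quotient_reduced (p.map (algebraMap E E'))).mpr inferInstance).radical,
    ← Ideal.sInf_minimalPrimes,
    Ideal.mem_sInf]
  intro p' hp'
  haveI := hp'.1.1
  haveI : p'.LiesOver (p'.under E) := ⟨rfl⟩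
  obtain ⟨P0, hP0le, hP0, hP0o⟩ := Ideal.exists_ideal_le_liesOver_of_le (p := p) (q := p'.under E) p'
    (Ideal.map_le_iff_le_comap.mp hp'.1.2)
  have hP0eq : P0 = p' :=
    le_antisymm hP0le (hp'.2 ⟨hP0, Ideal.map_le_iff_le_comap.mpr hP0o.over.le⟩ hP0le)
  haveI := hE'.isLocalRing
  haveI := hE'.isLocalHom_right
  haveI := H1EssEt.faithfullyFlat_subalgebra E' hE'.isEssentiallyEtale
  obtain ⟨P, hP⟩ := PrimeSpectrum.comap_surjective_of_faithfullyFlat (B := S) ⟨p', inferInstance⟩
  replace hP : P.asIdeal.comap (algebraMap E' S) = p' := congr(PrimeSpectrum.asIdeal $hP)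
  have hPE : P.asIdeal.comap (algebraMap E S) = p := by
    rw [IsScalarTower.algebraMap_eq E E' S, ← Ideal.comap_comap, hP, ← hP0eq]
    exact hP0o.over.symm
  have hPA : P.asIdeal.comap (algebraMap A S) = q := by
    rw [IsScalarTower.algebraMap_eq A E S, ← Ideal.comap_comap, hPE, hp, Ideal.comap_comap,
      ← IsScalarTower.algebraMap_eq, comap_of_mem_minimalPrimes_map hQ]
  have := hsep _ (mem_minimalPrimes_map P.asIdeal hPA) _ hQ hPE
  rw [← hP, Ideal.mem_comap, this]
  exact hy

/-- The subfield generated over the image of `A` by `t`. -/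
def fieldL (t : Finset K) : Subfield K :=
  Subfield.closure (Set.range (algebraMap A K) ∪ (t : Set K))

variable (hφ : ∀ z : K, ∃ a b : S, φ b ≠ 0 ∧ z * φ b = φ a) (t : Finset K)

include hφ

set_option maxHeartbeats 1000000 in
set_option synthInstance.maxHeartbeats 200000 in
theorem exists_isFE_main : ∃ (l : FiniteGaloisIntermediateField (ResidueField A) (ResidueField S))
    (E : Subalgebra A S), IsFE E ∧ residue S '' E = (l.toIntermediateField : Set (ResidueField S)) ∧
      (∀ Q' ∈ (((RingHom.ker φ).comap (algebraMap A S)).map (algebraMap A S)).minimalPrimes,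
        Q' = (Q'.comap (algebraMap E S)).map (algebraMap E S)) ∧
      (∀ z ∈ fieldL (A := A) t, ∃ n ∈ E, ∃ d ∈ E, φ d ≠ 0 ∧ z * φ d = φ n) ∧
      ∀ x : S, φ x ∈ fieldL (A := A) t → ∃ e ∈ E, φ e = φ x := by
  classical
  haveI : IsNoetherianRing S := isNoetherianRing A
  haveI hker : (RingHom.ker φ).IsPrime := RingHom.ker_isPrime _
  set q := (RingHom.ker φ).comap (algebraMap A S) with hq
  have hfin := Ideal.finite_minimalPrimes_of_isNoetherianRing S (q.map (algebraMap A S))
  have hc : ∀ P P' : Ideal S, ∃ c : S, P ≠ P' → ¬(c ∈ P ↔ c ∈ P') := fun P P' => by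
    by_cases h : P = P'
    · exact ⟨0, fun h' => (h' h).elim⟩
    · by_contra! hh
      exact h (SetLike.ext fun c => (hh c).2)
  choose c hc using hc
  choose num den hden hmul using hφ
  obtain ⟨l, E, hE, hEl, hs⟩ := exists_isFE_ge (A := A)
    ((hfin.toFinset ×ˢ hfin.toFinset).image (fun p => c p.1 p.2) ∪ t.image num ∪ t.image den)
  simp only [Finset.coe_union, Set.union_subset_iff] at hs
  obtain ⟨⟨hs1, hs2⟩, hs3⟩ := hs
  have hdec : ∀ Q' ∈ (q.map (algebraMap A S)).minimalPrimes,
      Q' = (Q'.comap (algebraMap E S)).map (algebraMap E S) := by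
    refine fun Q' hQ' => eq_map_comap hE (fun P hP P' hP' heq => by_contra fun hne => hc P P' hne ?_) hQ'
    have hmem : c P P' ∈ E := hs1 (Finset.mem_coe.mpr (Finset.mem_image.mpr
      ⟨(P, P'), Finset.mem_product.mpr ⟨hfin.mem_toFinset.mpr hP, hfin.mem_toFinset.mpr hP'⟩, rfl⟩))
    exact SetLike.ext_iff.mp heq ⟨_, hmem⟩
  have hgen : ∀ z ∈ fieldL (A := A) t, ∃ n ∈ E, ∃ d ∈ E, φ d ≠ 0 ∧ z * φ d = φ n := by
    intro z hz
    have hle : fieldL (A := A) t ≤ Subfield.closure ((E.map φ : Subalgebra A K) : Set K) := by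
      refine Subfield.closure_le.mpr (Set.union_subset ?_ fun a ha => ?_)
      · rintro _ ⟨a, rfl⟩
        exact Subfield.subset_closure (Subalgebra.algebraMap_mem _ a)
      · have h1 : φ (num a) ∈ Subfield.closure ((E.map φ : Subalgebra A K) : Set K) :=
          Subfield.subset_closure ⟨_, hs2 (Finset.mem_coe.mpr (Finset.mem_image_of_mem num ha)), rfl⟩
        have h2 : φ (den a) ∈ Subfield.closure ((E.map φ : Subalgebra A K) : Set K) :=
          Subfield.subset_closure ⟨_, hs3 (Finset.mem_coe.mpr (Finset.mem_image_of_mem den ha)), rfl⟩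
        rw [eq_div_of_mul_eq (hden a) (hmul a)]
        exact div_mem h1 h2
    have hsub : ∀ w ∈ Subring.closure ((E.map φ : Subalgebra A K) : Set K), ∃ n ∈ E, φ n = w :=
      fun w hw => Subalgebra.mem_map.mp
        ((Subring.closure_le (t := (E.map φ).toSubring)).mpr (fun _ hv => hv) hw)
    obtain ⟨a, ha, b, hb, rfl⟩ := Subfield.mem_closure_iff.mp (hle hz)
    obtain ⟨n, hn, rfl⟩ := hsub a ha
    obtain ⟨d, hd, rfl⟩ := hsub b hb
    by_cases h0 : φ d = 0
    · exact ⟨0, E.zero_mem, 1, E.one_mem, by simp, by simp [h0]⟩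
    · exact ⟨n, hn, d, hd, h0, div_mul_cancel₀ _ h0⟩
  refine ⟨l, E, hE, hEl, hdec, hgen, fun x hx => ?_⟩
  obtain ⟨n, hn, d, hd, hd0, hxd⟩ := hgen _ hx
  haveI := hE.isLocalRing
  haveI := hE.isLocalHom_right
  haveI := H1EssEt.faithfullyFlat_subalgebra E hE.isEssentiallyEtale
  set p : Ideal E := (RingHom.ker φ).comap (algebraMap E S) with hp
  have hPp : RingHom.ker φ = p.map (algebraMap E S) := hdec _ (mem_minimalPrimes_map _ rfl)
  have hmem : (⟨n, hn⟩ : E) ∈ ((Ideal.span {(⟨d, hd⟩ : E)} ⊔ p).map (algebraMap E S)).comap (algebraMap E S) := by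
    rw [Ideal.mem_comap, Ideal.map_sup, ← hPp, Ideal.map_span, Set.image_singleton,
      Ideal.mem_span_singleton_sup]
    refine ⟨x, n - x * d, ?_, by show x * d + (n - x * d) = n; ring⟩
    rw [RingHom.mem_ker, map_sub, map_mul, hxd, sub_self]
  rw [Ideal.comap_map_eq_self_of_faithfullyFlat, Ideal.mem_span_singleton_sup] at hmem
  obtain ⟨e, p0, hp0, he⟩ := hmem
  refine ⟨e, e.2, mul_right_cancel₀ hd0 ?_⟩
  have : φ ((e : S) * d + (p0 : S)) = φ n := congrArg (fun w : E => φ (w : S)) he
  rw [map_add, map_mul, show φ (p0 : S) = 0 from hp0, add_zero] at this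
  rw [this, hxd]

set_option maxHeartbeats 1000000 in
set_option synthInstance.maxHeartbeats 200000 in
/-- The elements of the image lying in `L` form the image of a finite étale subalgebra. -/
theorem exists_isFE_fixed : ∃ F : Subalgebra A S, IsFE F ∧
      (∀ f ∈ F, φ f ∈ fieldL (A := A) t) ∧
      (∀ x : S, φ x ∈ fieldL (A := A) t → ∃ f ∈ F, φ f = φ x) ∧
      ∀ z ∈ fieldL (A := A) t, ∃ a ∈ F, ∃ b ∈ F, φ b ≠ 0 ∧ z * φ b = φ a := by
  classical
  obtain ⟨l, E, hE, hEl, -, hgen, hmem⟩ := exists_isFE_main φ hφ t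
  haveI := hE.isLocalRing
  haveI := hE.isLocalHom_left
  haveI := hE.finite
  haveI := hE.etale
  obtain ⟨i, hi, hgal⟩ := isGalois_residueField hE l.toIntermediateField hEl
  obtain ⟨hG, hfixed⟩ := exists_fixed hE l.toIntermediateField hEl
  haveI : Algebra.IsInvariant A E (E ≃ₐ[A] E) := isInvariant hE.map_maximalIdeal
    ((IsGalois.card_aut_eq_finrank _ _).symm.trans (Nat.card_eq_of_bijective _ (autRes_bijective hE)).symm)
    (aut_ext hE)
  let φE : E →ₐ[A] K := φ.comp E.val
  let p : Ideal E := RingHom.ker φE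
  haveI : p.IsPrime := RingHom.ker_isPrime _
  let q : Ideal A := p.under A
  haveI : p.LiesOver q := ⟨rfl⟩
  let K0 := FractionRing (A ⧸ q)
  let L' := FractionRing (E ⧸ p)
  letI : Algebra K0 L' := FractionRing.liftAlgebra (A ⧸ q) L'
  haveI : IsScalarTower (A ⧸ q) K0 L' := FractionRing.isScalarTower_liftAlgebra _ _
  haveI : IsScalarTower A K0 L' := IsScalarTower.of_algebraMap_eq fun a => by
    rw [IsScalarTower.algebraMap_apply A (A ⧸ q) L', IsScalarTower.algebraMap_apply A (A ⧸ q) K0,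
      ← IsScalarTower.algebraMap_apply (A ⧸ q) K0 L']
  haveI : Algebra.FormallyUnramified E (E ⧸ p) := Algebra.FormallyUnramified.quotient _
  haveI : Algebra.FormallyUnramified (E ⧸ p) L' :=
    Algebra.FormallyUnramified.of_isLocalization (nonZeroDivisors (E ⧸ p))
  haveI : Algebra.FormallyUnramified A (E ⧸ p) := Algebra.FormallyUnramified.comp A E (E ⧸ p)
  haveI : Algebra.FormallyUnramified A L' := Algebra.FormallyUnramified.comp A (E ⧸ p) L'
  haveI : Algebra.FormallyUnramified K0 L' := Algebra.FormallyUnramified.of_restrictScalars A K0 L'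
  haveI : Algebra.EssFiniteType (E ⧸ p) L' :=
    Algebra.EssFiniteType.of_isLocalization L' (nonZeroDivisors (E ⧸ p))
  haveI : Algebra.EssFiniteType A L' := Algebra.EssFiniteType.comp A (E ⧸ p) L'
  haveI : Algebra.EssFiniteType K0 L' := Algebra.EssFiniteType.of_comp A K0 L'
  haveI : Algebra.IsSeparable K0 L' := Algebra.FormallyUnramified.isSeparable K0 L'
  haveI : Normal K0 L' := Ideal.IsFractionRing.normal (E ≃ₐ[A] E) q p K0 L'
  haveI : Module.Finite K0 L' := Ideal.IsFractionRing.finite_of_isInvariant (E ≃ₐ[A] E) q p K0 L'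
  haveI : IsGalois K0 L' := {}
  let ψ : E ⧸ p →+* K := Ideal.Quotient.lift p φE.toRingHom fun x hx => hx
  have hψ : Function.Injective ψ := RingHom.lift_injective_of_ker_le_ideal _ _ le_rfl
  let ι : L' →+* K := IsFractionRing.lift hψ
  have hι : ∀ x : E, ι (algebraMap (E ⧸ p) L' (Ideal.Quotient.mk p x)) = φ x := fun x =>
    IsFractionRing.lift_algebraMap hψ _
  let L₁ : IntermediateField K0 L' := ((fieldL (A := A) t).comap ι).toIntermediateField fun z => by
    obtain ⟨a, b, hb, rfl⟩ := IsFractionRing.div_surjective (A ⧸ q) z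
    have ha : ∀ w : A ⧸ q, algebraMap K0 L' (algebraMap (A ⧸ q) K0 w) ∈ (fieldL (A := A) t).comap ι := by
      intro w
      obtain ⟨w, rfl⟩ := Ideal.Quotient.mk_surjective w
      show ι _ ∈ fieldL (A := A) t
      rw [← IsScalarTower.algebraMap_apply, IsScalarTower.algebraMap_apply (A ⧸ q) (E ⧸ p) L',
        show algebraMap (A ⧸ q) (E ⧸ p) (Ideal.Quotient.mk q w) = Ideal.Quotient.mk p (algebraMap A E w) from rfl,
        hι]
      refine Subfield.subset_closure (Or.inl ⟨w, ?_⟩)
      exact (φ.commutes w).symm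
    rw [map_div₀]
    exact div_mem (ha a) (ha b)
  let Hs : Subgroup (MulAction.stabilizer (E ≃ₐ[A] E) p) :=
    L₁.fixingSubgroup.comap (IsFractionRing.stabilizerHom (E ≃ₐ[A] E) q p K0 L')
  obtain ⟨F, hF, hFE, hFfix⟩ := hfixed (Hs.map (MulAction.stabilizer (E ≃ₐ[A] E) p).subtype)
  have hL : ∀ f ∈ F, φ f ∈ fieldL (A := A) t := by
    intro f hf
    have hmemL : algebraMap (E ⧸ p) L' (Ideal.Quotient.mk p ⟨f, hFE hf⟩) ∈
        IntermediateField.fixedField L₁.fixingSubgroup := by
      rintro ⟨σ, hσ⟩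
      obtain ⟨g, rfl⟩ := IsFractionRing.stabilizerHom_surjective (E ≃ₐ[A] E) q p K0 L' σ
      refine (IsFractionRing.stabilizerHom_apply_apply_mk (E ≃ₐ[A] E) q p K0 L' g _).trans ?_
      rw [show g.1 • (⟨f, hFE hf⟩ : E) = ⟨f, hFE hf⟩ from
        (hFfix _).mp hf g.1 (Subgroup.mem_map_of_mem _ hσ)]
    rw [IsGalois.fixedField_fixingSubgroup] at hmemL
    exact hι ⟨f, hFE hf⟩ ▸ hmemL
  have hcls : ∀ x : S, φ x ∈ fieldL (A := A) t → ∃ f ∈ F, φ f = φ x := by
    intro x hx
    obtain ⟨e, he, hex⟩ := hmem x hx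
    let e' : E := ⟨e, he⟩
    let H := Hs.map (MulAction.stabilizer (E ≃ₐ[A] E) p).subtype
    have he' : ∀ h ∈ H, φE (h e') = φE e' := by
      rintro _ ⟨g, hg, rfl⟩
      have h1 : IsFractionRing.stabilizerHom (E ≃ₐ[A] E) q p K0 L' g
          (algebraMap (E ⧸ p) L' (Ideal.Quotient.mk p e')) = algebraMap (E ⧸ p) L' (Ideal.Quotient.mk p e') := by
        refine hg ⟨_, ?_⟩
        show ι _ ∈ fieldL (A := A) t
        rw [hι]
        exact hex ▸ hx
      have h2 := (IsFractionRing.stabilizerHom_apply_apply_mk (E ≃ₐ[A] E) q p K0 L' g e').symm.trans h1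
      have h3 := congrArg ψ (IsFractionRing.injective (E ⧸ p) L' h2)
      exact h3
    haveI : Fintype (E ≃ₐ[A] E) := Fintype.ofFinite _
    let T : Finset (E ≃ₐ[A] E) := Finset.univ.filter (· ∈ H)
    obtain ⟨y, hy⟩ := exists_sum_isUnit (aut_ext hE) T ⟨1, by simp [T]⟩
    obtain ⟨u, hu⟩ := hy
    have hsum : ∀ (w : E) (h : E ≃ₐ[A] E), h ∈ H → h (∑ g ∈ T, g • w) = ∑ g ∈ T, g • w := by
      intro w h hh
      rw [map_sum]
      refine Finset.sum_nbij' (fun g => h * g) (fun g => h⁻¹ * g) ?_ ?_ ?_ ?_ ?_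
      · intro g hg
        simpa [T, Subgroup.mul_mem_cancel_left _ hh] using hg
      · intro g hg
        simpa [T, Subgroup.mul_mem_cancel_left _ (H.inv_mem hh)] using hg
      · intro g _; simp
      · intro g _; simp
      · intro g _; rfl
    let f : E := ↑u⁻¹ * ∑ g ∈ T, g • (e' * y)
    refine ⟨f, (hFfix f).mpr fun h hh => ?_, ?_⟩
    · have hu1 : h (u : E) = u := by rw [hu]; exact hsum y h hh
      have hu2 : h (↑u⁻¹ : E) = ↑u⁻¹ := by
        refine (Units.eq_inv_of_mul_eq_one_left ?_)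
        rw [← hu1, ← map_mul, Units.mul_inv, map_one] at *
      simp only [f, map_mul, hu2, hsum _ h hh]
    · have hfu : φE (f * u) = φE e' * φE u := by
        rw [show f * (u : E) = ∑ g ∈ T, g • (e' * y) by rw [mul_comm, ← mul_assoc, Units.mul_inv, one_mul],
          hu, map_sum, map_sum, Finset.mul_sum]
        refine Finset.sum_congr rfl fun g hg => ?_
        show φE (g (e' * y)) = φE e' * φE (g y)
        rw [map_mul, map_mul, he' g (by simpa [T] using hg)]
      rw [map_mul] at hfu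
      exact (mul_right_cancel₀ (u.isUnit.map φE).ne_zero hfu).trans hex
  refine ⟨F, hF, hL, hcls, fun z hz => ?_⟩
  obtain ⟨n, hn, d, hd, hd0, hzd⟩ := hgen z hz
  have hd' : Ideal.Quotient.mk p (⟨d, hd⟩ : E) ≠ 0 := by
    rwa [Ne, Ideal.Quotient.eq_zero_iff_mem]
  haveI : Algebra.IsIntegral (A ⧸ q) (E ⧸ p) := Ideal.Quotient.algebra_isIntegral_of_liesOver _ _
  obtain ⟨b, a, ha, hab⟩ := (Algebra.IsAlgebraic.isAlgebraic (R := A ⧸ q) (Ideal.Quotient.mk p (⟨d, hd⟩ : E))).exists_smul_eq_mul
    (1 : E ⧸ p) (mem_nonZeroDivisors_of_ne_zero hd')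
  obtain ⟨a, rfl⟩ := Ideal.Quotient.mk_surjective a
  obtain ⟨b, rfl⟩ := Ideal.Quotient.mk_surjective b
  have hab' : algebraMap A K a = φ d * φ b := by
    have h := congrArg ψ hab
    rw [Algebra.smul_def, mul_one, show algebraMap (A ⧸ q) (E ⧸ p) (Ideal.Quotient.mk q a) =
      Ideal.Quotient.mk p (algebraMap A E a) from rfl, map_mul] at h
    exact ((φ.commutes a).symm.trans h)
  have ha0 : algebraMap A K a ≠ 0 := by
    intro h0
    refine ha (Ideal.Quotient.eq_zero_iff_mem.mpr ?_)
    show φE (algebraMap A E a) = 0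
    rwa [φE.commutes]
  have hx : φ (n * (b : S)) = z * algebraMap A K a := by
    rw [map_mul, ← hzd, hab', mul_assoc]
  obtain ⟨f, hf, hfx⟩ := hcls (n * (b : S)) (hx ▸ mul_mem hz (Subfield.subset_closure (Or.inl ⟨a, rfl⟩)))
  refine ⟨f, hf, algebraMap A S a, F.algebraMap_mem a, ?_, ?_⟩
  · rwa [φ.commutes]
  · rw [φ.commutes, hfx, hx]

end Groth.Agent.H1Gal
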