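import Groth.Agent.H1Gal.Invariant
import Groth.Agent.H1EssEt.Basic
import Groth.Agent.Hensel.EtaleResidueExt
import Groth.Agent.Hensel.Local
import Groth.Agent.EtAlg7.EssEtale

/-!
# Finite étale subalgebras of a strict henselization of a henselian local ring
-/

set_option autoImplicit false
universe u
open IsLocalRing

namespace Groth.Agent.H1Gal

theorem exists_ringHom_comp_eq {C : Type*} {F : Type*} {K : Type*} [CommRing C] [Field F] [Field K]
    (i : F →+* K) (g : C →+* K) (h : ∀ c, g c ∈ Set.range i) :
    ∃ α : C →+* F, ∀ c, i (α c) = g c := by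
  choose f hf using h
  refine ⟨{ toFun := f, map_one' := ?_, map_mul' := fun x y => ?_, map_zero' := ?_,
            map_add' := fun x y => ?_ }, hf⟩ <;> apply i.injective <;> simp [hf]

variable {A S : Type u} [CommRing A] [HenselianLocalRing A] [CommRing S] [IsLocalRing S]
  [Algebra A S] [IsLocalHom (algebraMap A S)]

/-- A finite étale local subalgebra. -/
structure IsFE (E : Subalgebra A S) : Prop where
  finite : Module.Finite A E
  etale : Algebra.Etale A E
  isLocalRing : IsLocalRing E

namespace IsFE

variable {E : Subalgebra A S}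

theorem isLocalHom_left (hE : IsFE E) : IsLocalHom (algebraMap A E) := by
  refine ⟨fun a ha => ?_⟩
  have : IsUnit (algebraMap A S a) := ha.map E.val
  exact isUnit_of_map_unit _ a this

theorem map_maximalIdeal (hE : IsFE E) [IsLocalRing E] :
    (maximalIdeal A).map (algebraMap A E) = maximalIdeal E := by
  haveI := hE.etale
  haveI := hE.isLocalHom_left
  exact Algebra.FormallyUnramified.map_maximalIdeal

theorem isLocalHom_right (hE : IsFE E) [IsLocalRing E] : IsLocalHom (algebraMap E S) := by
  refine ((local_hom_TFAE (algebraMap E S)).out 0 2).mpr ?_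
  rw [← hE.map_maximalIdeal, Ideal.map_map, ← IsScalarTower.algebraMap_eq A E S]
  exact ((local_hom_TFAE (algebraMap A S)).out 0 2 rfl rfl).mp ‹_›

theorem isLocalHom_val (hE : IsFE E) [IsLocalRing E] : IsLocalHom E.val :=
  ⟨hE.isLocalHom_right.map_nonunit⟩

theorem henselian (hE : IsFE E) : HenselianLocalRing E := by
  haveI := hE.isLocalRing
  haveI := hE.finite
  exact Hensel.henselianLocalRing_of_finite A E

theorem isEssentiallyEtale (hE : IsFE E) : EGA4loc.IsEssentiallyEtale A E := by
  haveI := hE.isLocalRing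
  haveI := hE.isLocalHom_left
  have h : (maximalIdeal E).primeCompl ≤ IsUnit.submonoid E := fun x hx => notMem_maximalIdeal.mp hx
  exact ⟨E, inferInstance, inferInstance, maximalIdeal E, inferInstance, hE.etale,
    ((local_hom_TFAE (algebraMap A E)).out 0 4 rfl rfl).mp inferInstance,
    ⟨(IsLocalization.atUnits E (maximalIdeal E).primeCompl h).restrictScalars A⟩⟩

end IsFE

variable [Hensel.IsStrictHenselization A S]

/-- A map from an étale algebra with residues in the residues of `E` factors through `E`. -/
theorem range_le {E : Subalgebra A S} (hE : IsFE E) {C : Type u} [CommRing C] [Algebra A C]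
    [Algebra.Etale A C] (β : C →ₐ[A] S) (h : ∀ c, ∃ y ∈ E, residue S (β c) = residue S y) :
    β.range ≤ E := by
  haveI := hE.henselian
  haveI := hE.isLocalHom_left
  haveI := hE.isLocalHom_right
  obtain ⟨α, hα⟩ := exists_ringHom_comp_eq (ResidueField.map (algebraMap E S))
    ((residue S).comp β.toRingHom) (fun c => by
      obtain ⟨y, hy, hcy⟩ := h c
      exact ⟨residue E ⟨y, hy⟩, (ResidueField.map_residue _ _).trans hcy.symm⟩)
  let σ : C →ₐ[A] E ⧸ maximalIdeal E :=
    AlgHom.mk α (fun a => (ResidueField.map (algebraMap E S)).injective (by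
      show _ = ResidueField.map (algebraMap E S) (residue E (algebraMap A E a))
      refine (hα _).trans ?_
      rw [ResidueField.map_residue, ← IsScalarTower.algebraMap_apply]
      exact congrArg (residue S) (β.commutes a)))
  obtain ⟨τ, hτ, -⟩ := Hensel.existsUnique_etale_lift_of_algebra (maximalIdeal E) σ
  have heq : E.val.comp τ = β := by
    refine Hensel.algHom_ext_of_le_jacobson (J := maximalIdeal S)
      (IsLocalRing.jacobson_eq_maximalIdeal ⊥ bot_ne_top).ge _ _ fun c => ?_
    refine Ideal.Quotient.eq.mp ?_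
    show residue S (algebraMap E S (τ c)) = residue S (β c)
    rw [← ResidueField.map_residue, show residue E (τ c) = α c from congr($hτ c)]
    exact hα c
  rintro _ ⟨c, rfl⟩
  exact heq ▸ (τ c).2

theorem le_of_residue {E E' : Subalgebra A S} (hE : IsFE E) (hE' : IsFE E')
    (h : residue S '' E ⊆ residue S '' E') : E ≤ E' := by
  haveI := hE.etale
  refine fun x hx => range_le hE' E.val (fun c => ?_) ⟨⟨x, hx⟩, rfl⟩
  obtain ⟨y, hy, hy'⟩ := h ⟨c, c.2, rfl⟩
  exact ⟨y, hy, hy'.symm⟩

instance : Algebra.IsSeparable (ResidueField A) (ResidueField S) :=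
  (Hensel.IsStrictHenselization.isSepClosure (R := A) (S := S)).separable

instance : IsGalois (ResidueField A) (ResidueField S) :=
  haveI := Hensel.IsStrictHenselization.isSepClosure (R := A) (S := S)
  inferInstance

theorem exists_isFE (l : IntermediateField (ResidueField A) (ResidueField S))
    [FiniteDimensional (ResidueField A) l] :
    ∃ E : Subalgebra A S, IsFE E ∧ residue S '' E = (l : Set (ResidueField S)) := by
  obtain ⟨E0, _, _, _, _, hfin, het, ⟨e⟩⟩ := Hensel.exists_finite_etale_residueField A l
  haveI := Hensel.IsStrictHenselization.henselian (R := A) (S := S)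
  haveI := H1EssEt.weaklyEtale (A := A) (S := S)
  let σ : E0 →ₐ[A] S ⧸ maximalIdeal S :=
    AlgHom.mk ((l.val.comp e.toAlgHom).toRingHom.comp (residue E0)) (fun a => by
      show ((e (residue E0 (algebraMap A E0 a))) : ResidueField S) = residue S (algebraMap A S a)
      rw [← ResidueField.algebraMap_residue, e.commutes]
      rfl)
  obtain ⟨ψ, hψ, -⟩ := Hensel.existsUnique_etale_lift_of_algebra (maximalIdeal S) σ
  have hres : ∀ x, residue S (ψ x) = (e (residue E0 x) : ResidueField S) := fun x => congr($hψ x)
  have hloc : ∀ x, IsUnit (ψ x) → IsUnit x := by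
    intro x hx
    rw [← residue_ne_zero_iff_isUnit] at hx ⊢
    intro h0
    exact hx (by rw [hres, h0, map_zero]; rfl)
  have hu : (maximalIdeal E0).primeCompl ≤ IsUnit.submonoid E0 := fun x hx => notMem_maximalIdeal.mp hx
  let u := (IsLocalization.atUnits E0 (maximalIdeal E0).primeCompl hu
    (S := Localization.AtPrime (maximalIdeal E0))).restrictScalars A
  let χ := ψ.comp u.symm.toAlgHom
  haveI : IsLocalHom χ.toRingHom := ⟨fun z hz => by
    have := (hloc _ hz).map u
    simpa using this⟩
  have hinj : Function.Injective ψ := by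
    intro x y hxy
    refine u.injective (H1EssEt.injective_of_isLocalHom _ χ ?_)
    simpa [χ] using hxy
  let e0 : E0 ≃ₐ[A] ψ.range := AlgEquiv.ofInjective ψ hinj
  haveI := e0.toRingEquiv.isLocalRing
  refine ⟨ψ.range, ⟨Module.Finite.equiv e0.toLinearEquiv, Algebra.Etale.of_equiv e0, ‹_›⟩, ?_⟩
  refine Set.Subset.antisymm ?_ ?_
  · rintro _ ⟨_, ⟨x, rfl⟩, rfl⟩
    exact (hres x).symm ▸ (e (residue E0 x)).2
  · intro z hz
    obtain ⟨x, hx⟩ := residue_surjective (e.symm ⟨z, hz⟩)
    exact ⟨ψ x, ⟨x, rfl⟩, by rw [hres, hx, e.apply_symm_apply]⟩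

/-- Finite sets lie in finite étale subalgebras with Galois residue extension. -/
theorem exists_isFE_ge (s : Finset S) :
    ∃ (l : FiniteGaloisIntermediateField (ResidueField A) (ResidueField S)) (E : Subalgebra A S),
      IsFE E ∧ residue S '' E = (l.toIntermediateField : Set (ResidueField S)) ∧ (s : Set S) ⊆ E := by
  classical
  obtain ⟨T, hT, ⟨e⟩⟩ := IndEtLib.exists_sys (S12237.result A S)
  obtain ⟨j, y, hy⟩ := T.exists_lift_finset s e.symm
  haveI := hT j
  let β : T.A j →ₐ[A] S := e.toAlgHom.comp (T.ι j)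
  obtain ⟨gens, hgens⟩ := (inferInstance : Algebra.FiniteType A (T.A j)).out
  let ρ : T.A j →ₐ[A] ResidueField S := (IsScalarTower.toAlgHom A S (ResidueField S)).comp β
  let img : Finset (ResidueField S) := gens.image ρ
  let l := FiniteGaloisIntermediateField.adjoin (ResidueField A) (img : Set (ResidueField S))
  obtain ⟨E, hE, hEl⟩ := exists_isFE (A := A) (S := S) l.toIntermediateField
  refine ⟨l, E, hE, hEl, fun x hx => ?_⟩
  refine range_le hE β (fun c => ?_) ⟨y x, by simp [β, hy x hx]⟩
  have hc : ρ c ∈ (l.toIntermediateField : Set (ResidueField S)) := by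
    have : c ∈ (l.toIntermediateField.toSubalgebra.restrictScalars A).comap ρ := by
      have hle : Algebra.adjoin A (gens : Set (T.A j)) ≤
          (l.toIntermediateField.toSubalgebra.restrictScalars A).comap ρ :=
        Algebra.adjoin_le fun g hg =>
          FiniteGaloisIntermediateField.subset_adjoin (ResidueField A) _
            (Finset.mem_coe.mpr (Finset.mem_image_of_mem ρ hg))
      exact hle (hgens ▸ Algebra.mem_top)
    exact this
  rw [← hEl] at hc
  obtain ⟨z, hz, hz'⟩ := hc
  exact ⟨z, hz, hz'.symm⟩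

section aut

variable {E : Subalgebra A S}

theorem aut_ext (hE : IsFE E) [IsLocalRing E] (g h : E ≃ₐ[A] E)
    (hgh : ∀ x : E, residue E (g • x) = residue E (h • x)) : g = h := by
  haveI := hE.isLocalHom_left
  exact AlgEquiv.coe_algHom_injective
    (EtAlg7.algHom_ext_residue hE.isEssentiallyEtale g.toAlgHom h.toAlgHom hgh)

/-- The map to the automorphisms of the residue field. -/
noncomputable def autRes (hE : IsFE E) [IsLocalRing E] [IsLocalHom (algebraMap A E)] :
    (E ≃ₐ[A] E) →* (ResidueField E ≃ₐ[ResidueField A] ResidueField E) where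
  toFun g := ResidueField.mapAlgEquiv' g
  map_one' := by
    ext z
    obtain ⟨x, rfl⟩ := residue_surjective z
    rfl
  map_mul' g h := by
    ext z
    obtain ⟨x, rfl⟩ := residue_surjective z
    rfl

theorem autRes_bijective (hE : IsFE E) [IsLocalRing E] [IsLocalHom (algebraMap A E)] :
    Function.Bijective (autRes hE) := by
  refine ⟨fun g h hgh => aut_ext hE g h fun x => congr($hgh (residue E x)), fun σ => ?_⟩
  haveI := hE.henselian
  have hc : ∀ (τ : ResidueField E ≃ₐ[ResidueField A] ResidueField E) (a : A),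
      τ.toRingEquiv.toRingHom (residue E (algebraMap A E a)) = residue E (algebraMap A E a) := by
    intro τ a
    rw [← ResidueField.algebraMap_residue]
    exact τ.commutes _
  obtain ⟨f, hf, -⟩ := EtAlg7.existsUnique_algHom hE.isEssentiallyEtale _ (hc σ)
  obtain ⟨f', hf', -⟩ := EtAlg7.existsUnique_algHom hE.isEssentiallyEtale _ (hc σ.symm)
  have h1 : f.comp f' = AlgHom.id A E :=
    EtAlg7.algHom_ext_residue hE.isEssentiallyEtale _ _ fun x =>
      (hf _).trans ((congrArg σ (hf' x)).trans (σ.apply_symm_apply _))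
  have h2 : f'.comp f = AlgHom.id A E :=
    EtAlg7.algHom_ext_residue hE.isEssentiallyEtale _ _ fun x =>
      (hf' _).trans ((congrArg σ.symm (hf x)).trans (σ.symm_apply_apply _))
  refine ⟨AlgEquiv.ofAlgHom f f' h1 h2, AlgEquiv.ext fun z => ?_⟩
  obtain ⟨x, rfl⟩ := residue_surjective z
  exact hf x

theorem isGalois_residueField (hE : IsFE E) [IsLocalRing E] [IsLocalHom (algebraMap A E)]
    (l : IntermediateField (ResidueField A) (ResidueField S)) [IsGalois (ResidueField A) l]
    (hEl : residue S '' E = (l : Set (ResidueField S))) :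
    ∃ i : ResidueField E →ₐ[ResidueField A] ResidueField S,
      (∀ x : E, i (residue E x) = residue S x) ∧ IsGalois (ResidueField A) (ResidueField E) := by
  haveI := hE.isLocalHom_val
  refine ⟨ResidueField.mapAlgHom' E.val, fun x => rfl, ?_⟩
  have hr : (ResidueField.mapAlgHom' E.val).fieldRange = l := by
    refine SetLike.ext' (Set.Subset.antisymm ?_ ?_)
    · rintro _ ⟨z, rfl⟩
      obtain ⟨x, rfl⟩ := residue_surjective z
      rw [← hEl]
      exact ⟨x, x.2, rfl⟩
    · rw [← hEl]
      rintro _ ⟨x, hx, rfl⟩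
      exact ⟨residue E ⟨x, hx⟩, rfl⟩
  exact IsGalois.of_algEquiv ((AlgEquiv.ofInjectiveField (ResidueField.mapAlgHom' E.val)).trans
    (IntermediateField.equivOfEq hr)).symm

set_option synthInstance.maxHeartbeats 200000 in
set_option maxHeartbeats 1000000 in
/-- Fixed subalgebras of subgroups of automorphisms. -/
theorem exists_fixed (hE : IsFE E) (l : IntermediateField (ResidueField A) (ResidueField S))
    [IsGalois (ResidueField A) l] [FiniteDimensional (ResidueField A) l]
    (hEl : residue S '' E = (l : Set (ResidueField S))) :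
    Finite (E ≃ₐ[A] E) ∧ ∀ H : Subgroup (E ≃ₐ[A] E), ∃ F : Subalgebra A S, IsFE F ∧ F ≤ E ∧
      ∀ x : E, (x : S) ∈ F ↔ ∀ h ∈ H, h x = x := by
  classical
  haveI := hE.isLocalRing
  haveI := hE.isLocalHom_left
  haveI := hE.finite
  obtain ⟨i, hi, hgal⟩ := isGalois_residueField hE l hEl
  have hG : Finite (E ≃ₐ[A] E) := Finite.of_injective _ (autRes_bijective hE).1
  refine ⟨hG, fun H => ?_⟩
  let H' := H.map (autRes hE)
  let M := IntermediateField.fixedField H'
  haveI : FiniteDimensional (ResidueField A) (M.map i) := Module.Finite.equiv (M.equivMap i).toLinearEquiv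
  obtain ⟨F, hF, hFl⟩ := exists_isFE (A := A) (S := S) (M.map i)
  have hFE : F ≤ E := le_of_residue hF hE (by
    rw [hFl]
    rintro _ ⟨z, -, rfl⟩
    obtain ⟨x, rfl⟩ := residue_surjective z
    exact ⟨x, x.2, (hi x).symm⟩)
  haveI := hF.isLocalRing
  haveI := hF.isLocalHom_left
  haveI := hF.isLocalHom_val
  letI : Algebra F E := (Subalgebra.inclusion hFE).toRingHom.toAlgebra
  haveI : IsScalarTower A F E := IsScalarTower.of_algebraMap_eq fun _ => rfl
  haveI : IsLocalHom (algebraMap F E) := ⟨fun x hx => by
    haveI := hE.isLocalHom_val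
    exact (isUnit_map_iff F.val x).mp (hx.map E.val)⟩
  have hfix : ∀ h ∈ H, ∀ x : F, h (algebraMap F E x) = algebraMap F E x := by
    intro h hh x
    suffices (h.toAlgHom.comp (Subalgebra.inclusion hFE)) = Subalgebra.inclusion hFE from congr($this x)
    refine EtAlg7.algHom_ext_residue hF.isEssentiallyEtale _ _ fun y => ?_
    have hy : residue S (y : S) ∈ (M.map i : Set (ResidueField S)) := hFl ▸ ⟨y, y.2, rfl⟩
    obtain ⟨m, hm, hmy⟩ := hy
    have : residue E (algebraMap F E y) = m := i.injective ((hi _).trans hmy.symm)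
    show autRes hE h (residue E (algebraMap F E y)) = residue E (algebraMap F E y)
    rw [this]
    exact hm ⟨autRes hE h, Subgroup.mem_map_of_mem _ hh⟩
  haveI : SMulCommClass H F E := ⟨fun h c x => by
    show h.1 (algebraMap F E c * x) = algebraMap F E c * h.1 x
    rw [map_mul, hfix h.1 h.2]⟩
  haveI : Module.Finite F E := Module.Finite.of_restrictScalars_finite A F E
  let iF : ResidueField F →ₐ[ResidueField A] ResidueField S := ResidueField.mapAlgHom' F.val
  have hrF : iF.fieldRange = M.map i := by
    refine SetLike.ext' (Set.Subset.antisymm ?_ ?_)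
    · rintro _ ⟨z, rfl⟩
      obtain ⟨x, rfl⟩ := residue_surjective z
      rw [← hFl]
      exact ⟨x, x.2, rfl⟩
    · rw [← hFl]
      rintro _ ⟨x, hx, rfl⟩
      exact ⟨residue F ⟨x, hx⟩, rfl⟩
  have h1 : Module.finrank (ResidueField A) (ResidueField F) = Module.finrank (ResidueField A) M :=
    (((AlgEquiv.ofInjectiveField iF).trans (IntermediateField.equivOfEq hrF)).trans
      (M.equivMap i).symm).toLinearEquiv.finrank_eq
  have h2 := Module.finrank_mul_finrank (ResidueField A) (ResidueField F) (ResidueField E)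
  have h3 := Module.finrank_mul_finrank (ResidueField A) M (ResidueField E)
  have h4 : Module.finrank M (ResidueField E) = Nat.card H :=
    (IntermediateField.finrank_fixedField_eq_card H').trans
      (Nat.card_congr (H.equivMapOfInjective _ (autRes_bijective hE).1).symm.toEquiv)
  have h0 : Module.finrank (ResidueField A) M ≠ 0 := Module.finrank_pos.ne'
  rw [h1, ← h3, h4] at h2
  haveI : Algebra.IsInvariant F E H := isInvariant (by
      rw [← hF.map_maximalIdeal, Ideal.map_map, ← IsScalarTower.algebraMap_eq, hE.map_maximalIdeal])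
    (Nat.eq_of_mul_eq_mul_left (Nat.pos_of_ne_zero h0) h2)
    (fun g h hgh => Subtype.ext (aut_ext hE _ _ hgh))
  refine ⟨F, hF, hFE, fun x => ⟨fun hx h hh => hfix h hh ⟨x, hx⟩, fun hx => ?_⟩⟩
  obtain ⟨y, rfl⟩ := Algebra.IsInvariant.isInvariant (A := F) (G := H) x fun g => hx g.1 g.2
  exact y.2

end aut

end Groth.Agent.H1Gal
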