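import Mathlib

/-!
# Invariants of a finite group acting on an unramified local extension

If a finite group `G` acts on a finite local `R`-algebra `E` with `m_R E = m_E`, the residual characters
of `G` are distinct and `[k_E : k_R] = |G|`, then `R` is the ring of invariants of `E`.
-/

set_option autoImplicit false
universe u v w
open IsLocalRing

namespace Groth.Agent.H1Gal

variable {R : Type u} {E : Type v} [CommRing R] [IsLocalRing R] [CommRing E] [IsLocalRing E]
  [Algebra R E] [IsLocalHom (algebraMap R E)] [Module.Finite R E]
  {G : Type w} [Group G] [MulSemiringAction G E] [SMulCommClass G R E]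

omit [Module.Finite R E] in
theorem smul_algebraMap' (g : G) (a : R) : g • algebraMap R E a = algebraMap R E a := by
  rw [Algebra.algebraMap_eq_smul_one, smul_comm, smul_one]

/-- The residual character attached to `g`. -/
noncomputable def χ (g : G) : E →* ResidueField E :=
  (residue E).toMonoidHom.comp (MulSemiringAction.toRingHom G E g).toMonoidHom

omit [Module.Finite R E] in
theorem χ_apply (g : G) (x : E) : χ g x = residue E (g • x) := rfl

omit [Module.Finite R E] in
theorem linearIndependent_χ (hdist : ∀ g h : G, (∀ x : E, residue E (g • x) = residue E (h • x)) → g = h) :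
    LinearIndependent (ResidueField E) (fun g : G => ((χ g : E →* ResidueField E) : E → ResidueField E)) :=
  (linearIndependent_monoidHom E (ResidueField E)).comp _ fun g h hgh => hdist g h fun x => congrFun (congrArg DFunLike.coe hgh) x

omit [Module.Finite R E] in
theorem exists_sum_isUnit [Fintype G] (hdist : ∀ g h : G, (∀ x : E, residue E (g • x) = residue E (h • x)) → g = h)
    (S : Finset G) (hS : S.Nonempty) : ∃ y : E, IsUnit (∑ g ∈ S, g • y) := by
  classical
  by_contra! hno
  obtain ⟨g₀, hg₀⟩ := hS
  have h := Fintype.linearIndependent_iff.mp (linearIndependent_χ hdist) (fun g => if g ∈ S then 1 else 0) ?_ g₀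
  · simp [hg₀] at h
  funext y
  simp only [Finset.sum_apply, ite_smul, one_smul, zero_smul, ite_apply, Pi.zero_apply,
    Finset.sum_ite_mem, Finset.univ_inter, χ_apply]
  rw [← map_sum, residue_eq_zero_iff]
  exact hno y

omit [MulSemiringAction G E] [SMulCommClass G R E] in
theorem exists_lift_basis (hm : (maximalIdeal R).map (algebraMap R E) = maximalIdeal E) :
    ∃ (ι : Type v) (_ : Fintype ι) (e : ι → E) (i₀ : ι), e i₀ = 1 ∧
      Submodule.span R (Set.range e) = ⊤ ∧
      Fintype.card ι = Module.finrank (ResidueField R) (ResidueField E) := by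
  classical
  have h1 : LinearIndepOn (ResidueField R) id ({1} : Set (ResidueField E)) :=
    LinearIndepOn.singleton (R := ResidueField R) (v := id) one_ne_zero
  let b := Module.Basis.extend h1
  haveI := FiniteDimensional.fintypeBasisIndex b
  have h1s : (1 : ResidueField E) ∈ h1.extend (Set.subset_univ _) := h1.subset_extend _ rfl
  let e : h1.extend (Set.subset_univ _) → E := fun i =>
    if i.1 = 1 then 1 else Function.surjInv residue_surjective i.1
  have he : ∀ i, residue E (e i) = i.1 := fun i => by
    simp only [e]
    split_ifs with h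
    · rw [map_one, h]
    · exact Function.surjInv_eq residue_surjective _
  refine ⟨_, inferInstance, e, ⟨1, h1s⟩, if_pos rfl, ?_, (Module.finrank_eq_card_basis b).symm⟩
  refine eq_top_iff.mpr ?_
  refine Submodule.le_of_le_smul_of_le_jacobson_bot Module.Finite.fg_top
    (IsLocalRing.maximalIdeal_le_jacobson ⊥) ?_
  intro x _
  obtain ⟨c, hc⟩ := (Submodule.mem_span_range_iff_exists_fun _).mp (b.mem_span (residue E x))
  choose a ha using fun i => residue_surjective (R := R) (c i)
  refine Submodule.mem_sup.mpr ⟨∑ i, a i • e i, sum_mem fun i _ => Submodule.smul_mem _ _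
    (Submodule.subset_span ⟨i, rfl⟩), x - ∑ i, a i • e i, ?_, by abel⟩
  rw [Ideal.smul_top_eq_map, Submodule.restrictScalars_mem, hm, ← residue_eq_zero_iff, map_sub,
    sub_eq_zero, map_sum]
  refine hc.symm.trans (Finset.sum_congr rfl fun i _ => ?_)
  rw [Algebra.smul_def, Algebra.smul_def, map_mul, he, ← ha i, ← ResidueField.algebraMap_residue]
  exact congrArg _ (Module.Basis.extend_apply_self h1 i)

theorem isUnit_det [Fintype G] [DecidableEq G] (e : G → E) (hspan : Submodule.span R (Set.range e) = ⊤)
    (hdist : ∀ g h : G, (∀ x : E, residue E (g • x) = residue E (h • x)) → g = h) :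
    IsUnit (Matrix.of fun g i => g • e i).det := by
  rw [← residue_ne_zero_iff_isUnit, RingHom.map_det, ← isUnit_iff_ne_zero, ← Matrix.isUnit_iff_isUnit_det,
    ← Matrix.linearIndependent_rows_iff_isUnit, Fintype.linearIndependent_iff]
  intro c hc
  refine Fintype.linearIndependent_iff.mp (linearIndependent_χ hdist) c ?_
  funext x
  simp only [Finset.sum_apply, Pi.smul_apply, Pi.zero_apply, χ_apply]
  obtain ⟨a, rfl⟩ := (Submodule.mem_span_range_iff_exists_fun R).mp (hspan ▸ Submodule.mem_top (x := x))
  simp only [Finset.smul_sum, map_sum, Algebra.smul_def, smul_mul', smul_algebraMap', map_mul,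
    Finset.mul_sum, Algebra.algebraMap_self, RingHom.id_apply]
  rw [Finset.sum_comm]
  refine Finset.sum_eq_zero fun i _ => ?_
  have h0 : ∑ g, c g * residue E (g • e i) = 0 := by simpa using congrFun hc i
  rw [← mul_zero (residue E (algebraMap R E (a i))), ← h0, Finset.mul_sum]
  exact Finset.sum_congr rfl fun g _ => by ring

set_option maxHeartbeats 1000000 in
theorem isInvariant [Finite G] (hm : (maximalIdeal R).map (algebraMap R E) = maximalIdeal E)
    (hcard : Module.finrank (ResidueField R) (ResidueField E) = Nat.card G)
    (hdist : ∀ g h : G, (∀ x : E, residue E (g • x) = residue E (h • x)) → g = h) :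
    Algebra.IsInvariant R E G := by
  classical
  cases nonempty_fintype G
  obtain ⟨ι, _, e, j, hj, hspan, hι⟩ := exists_lift_basis hm
  rw [hcard, Nat.card_eq_fintype_card] at hι
  let σ : ι ≃ G := Fintype.equivOfCardEq hι
  have hspan' : Submodule.span R (Set.range (e ∘ σ.symm)) = ⊤ := by
    rwa [Set.range_comp, σ.symm.range_eq_univ, Set.image_univ]
  have hdet := isUnit_det (e ∘ σ.symm) hspan' hdist
  refine ⟨fun x hx => ?_⟩
  obtain ⟨a, ha⟩ := (Submodule.mem_span_range_iff_exists_fun R).mp (hspan' ▸ Submodule.mem_top (x := x))
  let v : G → E := fun i => algebraMap R E (a i) - if i = σ j then x else 0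
  let M : Matrix G G E := Matrix.of fun g i => g • (e ∘ σ.symm) i
  have hv : M.mulVec v = 0 := by
    funext g
    have h2 : ∑ i : G, (g • e (σ.symm i)) * algebraMap R E (a i) = x := by
      conv_rhs => rw [← hx g, ← ha, Finset.smul_sum]
      refine Finset.sum_congr rfl fun i _ => ?_
      rw [Algebra.smul_def, smul_mul', smul_algebraMap', mul_comm]
      rfl
    change ∑ i : G, M g i * v i = 0
    have h3 : ∀ i : G, M g i * v i = (g • e (σ.symm i)) * algebraMap R E (a i) -
        if i = σ j then x else 0 := by
      intro i
      show (g • e (σ.symm i)) * (algebraMap R E (a i) - if i = σ j then x else 0) = _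
      rw [mul_sub]
      split_ifs with h
      · simp [h, hj]
      · rw [mul_zero]
    rw [Finset.sum_congr rfl fun i _ => h3 i, Finset.sum_sub_distrib, h2, Finset.sum_ite_eq',
      if_pos (Finset.mem_univ _), sub_self]
  have hv0 : v = 0 := Matrix.mulVec_injective_of_isUnit ((Matrix.isUnit_iff_isUnit_det M).mpr hdet)
    (hv.trans (Matrix.mulVec_zero M).symm)
  refine ⟨a (σ j), ?_⟩
  have h4 : v (σ j) = 0 := congrFun hv0 (σ j)
  simp only [v, if_pos, sub_eq_zero] at h4
  exact h4

end Groth.Agent.H1Gal
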