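import Groth.Agent.H1Gal.Main
import Groth.Agent.CplFib6.Excellent

/-!
# The form of the main theorem for a quotient by a prime ideal
-/

set_option autoImplicit false
universe u
open IsLocalRing

namespace Groth.Agent.H1Gal

variable {A S : Type u} [CommRing A] [HenselianLocalRing A] [IsNoetherianRing A] [CommRing S]
  [IsLocalRing S] [Algebra A S] [IsLocalHom (algebraMap A S)] [Hensel.IsStrictHenselization A S]
  (Q : Ideal S) [Q.IsPrime]

/-- The map to the fraction field of `S ⧸ Q`. -/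
noncomputable def toFrac : S →ₐ[A] FractionRing (S ⧸ Q) :=
  (IsScalarTower.toAlgHom A (S ⧸ Q) (FractionRing (S ⧸ Q))).comp (Ideal.Quotient.mkₐ A Q)

theorem toFrac_apply (x : S) :
    toFrac (A := A) Q x = algebraMap (S ⧸ Q) (FractionRing (S ⧸ Q)) (Ideal.Quotient.mk Q x) := rfl

theorem mk_eq_of_toFrac_eq {x y : S} (h : toFrac (A := A) Q x = toFrac (A := A) Q y) :
    Ideal.Quotient.mk Q x = Ideal.Quotient.mk Q y :=
  IsFractionRing.injective (S ⧸ Q) (FractionRing (S ⧸ Q)) h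

theorem ker_toFrac : RingHom.ker (toFrac (A := A) Q) = Q := by
  ext x
  rw [RingHom.mem_ker, toFrac_apply, map_eq_zero_iff _ (IsFractionRing.injective (S ⧸ Q) _),
    Ideal.Quotient.eq_zero_iff_mem]

theorem toFrac_frac (z : FractionRing (S ⧸ Q)) :
    ∃ a b : S, toFrac (A := A) Q b ≠ 0 ∧ z * toFrac (A := A) Q b = toFrac (A := A) Q a := by
  obtain ⟨a, b, hb, rfl⟩ := IsFractionRing.div_surjective (S ⧸ Q) z
  obtain ⟨a, rfl⟩ := Ideal.Quotient.mk_surjective a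
  obtain ⟨b, rfl⟩ := Ideal.Quotient.mk_surjective b
  have h0 : toFrac (A := A) Q b ≠ 0 := by
    rw [toFrac_apply]
    exact IsFractionRing.to_map_ne_zero_of_mem_nonZeroDivisors hb
  exact ⟨a, b, h0, div_mul_cancel₀ _ h0⟩

/-- The elements of `S ⧸ Q` lying in a finitely generated subfield. -/
theorem exists_subalgebra_quotient (t : Finset (FractionRing (S ⧸ Q))) :
    ∃ D' : Subalgebra A (S ⧸ Q), (D' : Set (S ⧸ Q)) =
        (algebraMap (S ⧸ Q) (FractionRing (S ⧸ Q))) ⁻¹' (fieldL (A := A) t : Set (FractionRing (S ⧸ Q))) ∧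
      Module.Finite A D' ∧ Algebra.FormallyUnramified A D' ∧ IsLocalRing D' ∧
      ∀ l ∈ fieldL (A := A) t, ∃ a ∈ D', ∃ b ∈ D', algebraMap (S ⧸ Q) (FractionRing (S ⧸ Q)) b ≠ 0 ∧
        l * algebraMap (S ⧸ Q) (FractionRing (S ⧸ Q)) b = algebraMap (S ⧸ Q) (FractionRing (S ⧸ Q)) a := by
  obtain ⟨F, hF, h1, h2, h3⟩ := exists_isFE_fixed (toFrac (A := A) Q) (toFrac_frac Q) t
  haveI := hF.finite
  haveI := hF.etale
  haveI := hF.isLocalRing
  refine ⟨F.map (Ideal.Quotient.mkₐ A Q), ?_, ?_⟩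
  · refine Set.Subset.antisymm ?_ fun z hz => ?_
    · rintro _ ⟨f, hf, rfl⟩
      exact h1 f hf
    · obtain ⟨x, rfl⟩ := Ideal.Quotient.mk_surjective z
      obtain ⟨f, hf, hfx⟩ := h2 x hz
      exact ⟨f, hf, mk_eq_of_toFrac_eq Q hfx⟩
  let g : F →ₐ[A] F.map (Ideal.Quotient.mkₐ A Q) :=
    ((Ideal.Quotient.mkₐ A Q).comp F.val).codRestrict _ fun x => ⟨x, x.2, rfl⟩
  have hg : Function.Surjective g := fun ⟨z, x, hx, hxz⟩ => ⟨⟨x, hx⟩, Subtype.ext hxz⟩
  refine ⟨Module.Finite.of_surjective g.toLinearMap hg, Algebra.FormallyUnramified.of_surjective g hg,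
    IsLocalRing.of_surjective' g.toRingHom hg, fun l hl => ?_⟩
  obtain ⟨a, ha, b, hb, hb0, hl⟩ := h3 l hl
  exact ⟨_, ⟨a, ha, rfl⟩, _, ⟨b, hb, rfl⟩, hb0, hl⟩

end Groth.Agent.H1Gal
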